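import Mathlib
import Cfsg.Agent.H185.IsoTransport

/-!
# Transport along an isometry between forms with different index types (helper204)

`T : (κ → F) ≃ₗ[F] (ι → F)` with `Q (T v) = Q' v`:

* `glT T : GL κ F ≃* GL ι F`, `glT_mulVec`;
* `simT : Sim Q' ≃* Sim Q`, `isoT`, `omT`, `poT : POmega F Q' ≃* POmega F Q`;
* `congr_Phi : MulAut.congr (poT hT) (Phi hG' M) = Phi hG (conjGam T hT M)`, `congr_S`.
-/

set_option autoImplicit false
set_option linter.unusedSectionVars false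

namespace Cfsg.Agent.H204.CrossT

open Matrix QuadraticMap Cfsg.Agent.LieClassical.OrthCore Cfsg.Agent.LieClassical.OrthTrans
  Cfsg.Agent.ClassicalGeometry.OrthSemi Cfsg.Agent.H198.OrthFrame Cfsg.Agent.H198.ClassesPlus
  Cfsg.Agent.LieClassical.OrthFinite

universe u

variable {ι κ : Type} [Fintype ι] [DecidableEq ι] [Fintype κ] [DecidableEq κ] {F : Type u} [Field F]

/-- Conjugation by a linear isomorphism, on matrices. -/
noncomputable def glT (T : (κ → F) ≃ₗ[F] (ι → F)) : GL κ F ≃* GL ι F :=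
  (Matrix.GeneralLinearGroup.toLin.trans (LinearMap.GeneralLinearGroup.congrLinearEquiv T)).trans
    Matrix.GeneralLinearGroup.toLin.symm

theorem glT_mulVec (T : (κ → F) ≃ₗ[F] (ι → F)) (g : GL κ F) (v : κ → F) :
    (glT T g : Matrix ι ι F) *ᵥ (T v) = T ((g : Matrix κ κ F) *ᵥ v) := by
  have h1 : ∀ (h : GL ι F) (w : ι → F), (h : Matrix ι ι F) *ᵥ w =
      (Matrix.GeneralLinearGroup.toLin h : (ι → F) →ₗ[F] (ι → F)) w := fun h w => rfl
  rw [h1, glT]
  simp only [MulEquiv.trans_apply, MulEquiv.apply_symm_apply]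
  change T ((Matrix.GeneralLinearGroup.toLin g : (κ → F) →ₗ[F] (κ → F)) (T.symm (T v))) = _
  rw [LinearEquiv.symm_apply_apply]
  rfl

theorem glT_symm_mulVec (T : (κ → F) ≃ₗ[F] (ι → F)) (g : GL ι F) (v : κ → F) :
    T (((glT T).symm g : Matrix κ κ F) *ᵥ v) = (g : Matrix ι ι F) *ᵥ (T v) := by
  rw [← glT_mulVec, MulEquiv.apply_symm_apply]

theorem gl_ext {g h : GL ι F} (T : (κ → F) ≃ₗ[F] (ι → F))
    (H : ∀ v : κ → F, (g : Matrix ι ι F) *ᵥ T v = (h : Matrix ι ι F) *ᵥ T v) : g = h := by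
  apply Units.ext
  rw [← Matrix.mulVec_injective.eq_iff]
  funext x
  obtain ⟨x, rfl⟩ := T.surjective x
  exact H x

theorem det_glT (T : (κ → F) ≃ₗ[F] (ι → F)) (g : GL κ F) :
    (glT T g : Matrix ι ι F).det = (g : Matrix κ κ F).det := by
  have h1 : Matrix.toLin' (glT T g : Matrix ι ι F) =
      T.toLinearMap ∘ₗ Matrix.toLin' (g : Matrix κ κ F) ∘ₗ T.symm.toLinearMap := by
    apply LinearMap.ext
    intro v
    obtain ⟨v, rfl⟩ := T.surjective v
    rw [Matrix.toLin'_apply, glT_mulVec]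
    simp
  rw [← LinearMap.det_toLin' (glT T g : Matrix ι ι F), h1, LinearMap.det_conj, LinearMap.det_toLin']

variable {Q : QuadraticForm F (ι → F)} {Q' : QuadraticForm F (κ → F)} {T : (κ → F) ≃ₗ[F] (ι → F)}

theorem form_symm (hT : ∀ v, Q (T v) = Q' v) (v : ι → F) : Q' (T.symm v) = Q v := by
  rw [← hT, T.apply_symm_apply]

theorem sim_iff (hT : ∀ v, Q (T v) = Q' v) (g : GL κ F) (c : F) :
    (∀ v : ι → F, Q ((glT T g : Matrix ι ι F) *ᵥ v) = c * Q v) ↔
      ∀ v : κ → F, Q' ((g : Matrix κ κ F) *ᵥ v) = c * Q' v := by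
  constructor
  · intro h v
    rw [← hT, ← hT, ← glT_mulVec]
    exact h _
  · intro h v
    obtain ⟨v, rfl⟩ := T.surjective v
    rw [glT_mulVec, hT, hT, h]

/-- Conjugation on similarities. -/
noncomputable def simT (hT : ∀ v, Q (T v) = Q' v) : Sim Q' ≃* Sim Q where
  toFun g := ⟨glT T g.1, by
    obtain ⟨c, hc⟩ := g.2
    exact ⟨c, (sim_iff hT _ _).2 hc⟩⟩
  invFun g := ⟨(glT T).symm g.1, by
    obtain ⟨c, hc⟩ := g.2
    exact ⟨c, (sim_iff hT _ _).1 (by rw [MulEquiv.apply_symm_apply]; exact hc)⟩⟩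
  left_inv g := Subtype.ext ((glT T).symm_apply_apply _)
  right_inv g := Subtype.ext ((glT T).apply_symm_apply _)
  map_mul' g h := Subtype.ext (map_mul (glT T) _ _)

theorem coe_simT (hT : ∀ v, Q (T v) = Q' v) (g : Sim Q') : ((simT hT g : Sim Q) : GL ι F) = glT T g.1 := rfl

theorem simT_mulVec (hT : ∀ v, Q (T v) = Q' v) (g : Sim Q') (v : κ → F) :
    ((simT hT g : GL ι F) : Matrix ι ι F) *ᵥ (T v) = T (((g : GL κ F) : Matrix κ κ F) *ᵥ v) :=
  glT_mulVec T g.1 v

theorem mu_simT (hT : ∀ v, Q (T v) = Q' v) (hG : Good Q) (hG' : Good Q')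
    (g : Sim Q') : mu hG (simT hT g) = mu hG' g :=
  mu_unique hG _ ((sim_iff hT _ _).2 (mu_spec hG' g))

theorem dt_simT (hT : ∀ v, Q (T v) = Q' v) (g : Sim Q') : dt (simT hT g) = dt g := by
  apply Units.ext
  rw [dt_apply, dt_apply, coe_simT, det_glT]

/-- Conjugation on isometries. -/
noncomputable def isoT (hT : ∀ v, Q (T v) = Q' v) :
    isometryGroup F ⇑Q' ≃* isometryGroup F ⇑Q where
  toFun g := ⟨glT T g.1, fun v _ => by
    have h := (sim_iff hT g.1 1).2 (fun w => by rw [one_mul]; exact g.2 w w) v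
    rw [one_mul] at h
    exact h⟩
  invFun g := ⟨(glT T).symm g.1, fun v _ => by
    have h := (sim_iff hT ((glT T).symm g.1) 1).1
      (by rw [MulEquiv.apply_symm_apply]; intro w; rw [one_mul]; exact g.2 w w) v
    rw [one_mul] at h
    exact h⟩
  left_inv g := Subtype.ext ((glT T).symm_apply_apply _)
  right_inv g := Subtype.ext ((glT T).apply_symm_apply _)
  map_mul' g h := Subtype.ext (map_mul (glT T) _ _)

theorem map_Omega (hT : ∀ v, Q (T v) = Q' v) :
    (Omega F ⇑Q').map (isoT hT).toMonoidHom = Omega F ⇑Q := by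
  rw [Omega, Omega, commutator_def, commutator_def, Subgroup.map_commutator,
    ← MonoidHom.range_eq_map, MonoidHom.range_eq_top.2 (isoT hT).surjective]

/-- Conjugation on `Ω`. -/
noncomputable def omT (hT : ∀ v, Q (T v) = Q' v) : Omega F ⇑Q' ≃* Omega F ⇑Q :=
  ((isoT hT).subgroupMap (Omega F ⇑Q')).trans (MulEquiv.subgroupCongr (map_Omega hT))

theorem coe_omT (hT : ∀ v, Q (T v) = Q' v) (s : Omega F ⇑Q') :
    (((omT hT s : Omega F ⇑Q) : isometryGroup F ⇑Q) : GL ι F) = glT T s.1.1 := rfl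

theorem omT_mulVec (hT : ∀ v, Q (T v) = Q' v) (s : Omega F ⇑Q') (v : κ → F) :
    ((((omT hT s : Omega F ⇑Q) : isometryGroup F ⇑Q) : GL ι F) : Matrix ι ι F) *ᵥ (T v) =
      T ((((s : Omega F ⇑Q').1 : GL κ F) : Matrix κ κ F) *ᵥ v) :=
  glT_mulVec T _ v

/-- Conjugation on `PΩ`. -/
noncomputable def poT (hT : ∀ v, Q (T v) = Q' v) :
    POmega F ⇑Q' ≃* POmega F ⇑Q := quotientCenterCongr (omT hT)

theorem poT_mk (hT : ∀ v, Q (T v) = Q' v) (s : Omega F ⇑Q') :
    poT hT (QuotientGroup.mk s) = QuotientGroup.mk (omT hT s) := rfl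

/-- **Transport of the automorphisms.** -/
theorem congr_Phi (hT : ∀ v, Q (T v) = Q' v) (hG : Good Q) (hG' : Good Q')
    (M : Gam Q') : MulAut.congr (poT hT) (Phi hG' M) = Phi hG (conjGam T hT M) := by
  ext x
  obtain ⟨x, rfl⟩ := (poT hT).surjective x
  obtain ⟨s, rfl⟩ := QuotientGroup.mk_surjective x
  change poT hT (Phi hG' M ((poT hT).symm (poT hT (QuotientGroup.mk s)))) = _
  rw [MulEquiv.symm_apply_apply]
  obtain ⟨s', hs'⟩ := exists_conj hG' M s
  have h1 : Phi hG' M (QuotientGroup.mk s) = QuotientGroup.mk s' := Phi_mk hG' _ hs'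
  rw [h1, poT_mk, poT_mk]
  symm
  apply Phi_mk
  intro v
  obtain ⟨v, rfl⟩ := T.surjective v
  rw [conjGam_apply, omT_mulVec, omT_mulVec, conjGam_apply]
  congr 1
  exact hs' v

theorem conjGam_simGam (hT : ∀ v, Q (T v) = Q' v) (g : Sim Q') :
    conjGam T hT (simGam Q' g) = simGam Q (simT hT g) := by
  apply Subtype.ext
  ext1 v
  obtain ⟨v, rfl⟩ := T.surjective v
  rw [conjGam_apply, simGam_apply, simGam_apply, simT_mulVec]

theorem congr_S (hT : ∀ v, Q (T v) = Q' v) (hG : Good Q) (hG' : Good Q')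
    (g : Sim Q') : MulAut.congr (poT hT) (S hG' g) = S hG (simT hT g) := by
  change MulAut.congr (poT hT) (Phi hG' (simGam Q' g)) = Phi hG (simGam Q (simT hT g))
  rw [congr_Phi hT hG hG', conjGam_simGam]

theorem polar_T (hT : ∀ v, Q (T v) = Q' v) (u v : κ → F) : polar Q (T u) (T v) = polar Q' u v := by
  rw [polar, polar, ← map_add, hT, hT, hT]

/-- A form isometric to a good form is good. -/
theorem good_of_isometry (hT : ∀ v, Q (T v) = Q' v) (hG : Good Q) : Good Q' := by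
  have hs : ∀ v, T (T.symm v) = v := T.apply_symm_apply
  refine ⟨fun x hx => ?_, ?_, ?_, fun x y hxy => ?_⟩
  · have h1 : T x = 0 := hG.nondeg _ fun y => by rw [← hs y, polar_T hT, hx]
    exact T.map_eq_zero_iff.1 h1
  · rw [T.finrank_eq]
    exact hG.dim
  · obtain ⟨x, hx, hx0⟩ := hG.sing
    exact ⟨T.symm x, fun h => hx (T.symm.map_eq_zero_iff.1 h), by rw [← hT, hs, hx0]⟩
  · obtain ⟨w, hw0, hw, h1, h2⟩ := hG.perp (T x) (T y)
      ⟨by rw [hT]; exact hxy.left, by rw [hT]; exact hxy.right, by rw [polar_T hT]; exact hxy.pair⟩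
    refine ⟨T.symm w, fun h => hw0 (T.symm.map_eq_zero_iff.1 h), by rw [← hT, hs, hw], ?_, ?_⟩
    · rw [← polar_T hT, hs, h1]
    · rw [← polar_T hT, hs, h2]

/-- Images of groups of similarities. -/
theorem map_map_S (hT : ∀ v, Q (T v) = Q' v) (hG : Good Q) (hG' : Good Q')
    {C' : Subgroup (Sim Q')} {C : Subgroup (Sim Q)} (hC : ∀ g, simT hT g ∈ C ↔ g ∈ C') :
    (C'.map (S hG')).map (MulAut.congr (poT hT)).toMonoidHom = C.map (S hG) := by
  ext β
  constructor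
  · rintro ⟨_, ⟨g, hg, rfl⟩, rfl⟩
    exact ⟨simT hT g, (hC g).2 hg, (congr_S hT hG hG' g).symm⟩
  · rintro ⟨g, hg, rfl⟩
    obtain ⟨g, rfl⟩ := (simT hT).surjective g
    exact ⟨_, ⟨g, (hC g).1 hg, rfl⟩, congr_S hT hG hG' g⟩

end Cfsg.Agent.H204.CrossT
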