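import Mathlib
import Cfsg.Agent.H951.Lin

/-!
# Gluing endomorphisms along an orthogonal decomposition (helper204)

`B` a bilinear form on `V`; elementary predicates `Sy B` (symmetric), `Nd B` (nondegenerate on the left),
`Smi B c g` : `B (g u) (g v) = c * B u v`. `glue h a b` : the endomorphism of `V = X ⊕ Y` which is `a` on
`X` and `b` on `Y`.
-/

set_option autoImplicit false

namespace Cfsg.Agent.H204

open Module

variable {F V : Type*} [Field F] [AddCommGroup V] [Module F V]

/-- symmetric -/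
def Sy (B : LinearMap.BilinForm F V) : Prop := ∀ u v, B u v = B v u

/-- nondegenerate -/
def Nd (B : LinearMap.BilinForm F V) : Prop := ∀ u, (∀ v, B u v = 0) → u = 0

/-- `g` multiplies `B` by `c` -/
def Smi (B : LinearMap.BilinForm F V) (c : F) (g : V →ₗ[F] V) : Prop :=
  ∀ u v, B (g u) (g v) = c * B u v

/-- the orthogonal space -/
def perp (B : LinearMap.BilinForm F V) (X : Submodule F V) : Submodule F V := B.orthogonal X

variable {B : LinearMap.BilinForm F V}

theorem mem_perp {X : Submodule F V} {v : V} : v ∈ perp B X ↔ ∀ x ∈ X, B x v = 0 := Iff.rfl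

theorem Sy.restrict (hs : Sy B) (X : Submodule F V) : Sy (B.restrict X) := fun u v => hs u v

theorem Sy.isSymm (hs : Sy B) : B.IsSymm := ⟨hs⟩

theorem nondegenerate_of (hs : Sy B) (hn : Nd B) : B.Nondegenerate :=
  ⟨fun u hu => hn u hu, fun u hu => hn u fun v => by rw [hs]; exact hu v⟩

theorem isCompl_perp [FiniteDimensional F V] (hs : Sy B) {X : Submodule F V} (h : Nd (B.restrict X)) :
    IsCompl X (perp B X) :=
  LinearMap.BilinForm.isCompl_orthogonal_of_restrict_nondegenerate hs.isSymm.isRefl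
    (nondegenerate_of (hs.restrict X) h)

theorem nd_restrict_of_isCompl (hn : Nd B) {X : Submodule F V}
    (h : X ⊔ perp B X = ⊤) : Nd (B.restrict X) := by
  intro u hu
  apply Subtype.ext
  refine hn u fun v => ?_
  have hv : v ∈ X ⊔ perp B X := by rw [h]; exact Submodule.mem_top
  obtain ⟨x, hx, y, hy, rfl⟩ := Submodule.mem_sup.1 hv
  rw [map_add, mem_perp.1 hy u u.2, add_zero]
  exact hu ⟨x, hx⟩

theorem nd_restrict_perp (hs : Sy B) (hn : Nd B) {X : Submodule F V}
    (h : X ⊔ perp B X = ⊤) : Nd (B.restrict (perp B X)) := by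
  intro u hu
  apply Subtype.ext
  refine hn u fun v => ?_
  have hv : v ∈ X ⊔ perp B X := by rw [h]; exact Submodule.mem_top
  obtain ⟨x, hx, y, hy, rfl⟩ := Submodule.mem_sup.1 hv
  rw [map_add, hs (u : V) x, mem_perp.1 u.2 x hx, zero_add]
  exact hu ⟨y, hy⟩

/-- The endomorphism of `V = X ⊕ Y` which is `a` on `X` and `b` on `Y`. -/
noncomputable def glue {X Y : Submodule F V} (h : IsCompl X Y) (a : X →ₗ[F] X) (b : Y →ₗ[F] Y) :
    V →ₗ[F] V :=
  (Submodule.prodEquivOfIsCompl X Y h).toLinearMap ∘ₗ (a.prodMap b) ∘ₗ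
    (Submodule.prodEquivOfIsCompl X Y h).symm.toLinearMap

theorem glue_add {X Y : Submodule F V} (h : IsCompl X Y) (a : X →ₗ[F] X) (b : Y →ₗ[F] Y)
    (x : X) (y : Y) : glue h a b (x + y) = a x + b y := by
  have h1 : (Submodule.prodEquivOfIsCompl X Y h).symm ((x : V) + y) = (x, y) := by
    rw [LinearEquiv.symm_apply_eq]
    rfl
  rw [glue, LinearMap.comp_apply, LinearMap.comp_apply]
  change (Submodule.prodEquivOfIsCompl X Y h) ((a.prodMap b)
    ((Submodule.prodEquivOfIsCompl X Y h).symm (↑x + ↑y))) = _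
  rw [h1]
  rfl

theorem glue_left {X Y : Submodule F V} (h : IsCompl X Y) (a : X →ₗ[F] X) (b : Y →ₗ[F] Y)
    (x : X) : glue h a b x = a x := by
  have := glue_add h a b x 0
  rwa [Submodule.coe_zero, add_zero, map_zero, Submodule.coe_zero, add_zero] at this

theorem glue_right {X Y : Submodule F V} (h : IsCompl X Y) (a : X →ₗ[F] X) (b : Y →ₗ[F] Y)
    (y : Y) : glue h a b y = b y := by
  have := glue_add h a b 0 y
  rwa [Submodule.coe_zero, zero_add, map_zero, Submodule.coe_zero, zero_add] at this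

theorem det_glue [FiniteDimensional F V] {X Y : Submodule F V} (h : IsCompl X Y) (a : X →ₗ[F] X)
    (b : Y →ₗ[F] Y) : LinearMap.det (glue h a b) = LinearMap.det a * LinearMap.det b := by
  rw [glue]
  rw [LinearMap.det_conj, LinearMap.det_prodMap]

theorem exists_add {X Y : Submodule F V} (h : IsCompl X Y) (v : V) :
    ∃ (x : X) (y : Y), (x : V) + y = v := by
  have hv : v ∈ X ⊔ Y := by rw [h.sup_eq_top]; exact Submodule.mem_top
  obtain ⟨x, hx, y, hy, h⟩ := Submodule.mem_sup.1 hv
  exact ⟨⟨x, hx⟩, ⟨y, hy⟩, h⟩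

theorem smi_glue (hs : Sy B) {X : Submodule F V} (h : IsCompl X (perp B X)) {c : F}
    {a : X →ₗ[F] X} {b : perp B X →ₗ[F] perp B X} (ha : Smi (B.restrict X) c a)
    (hb : Smi (B.restrict (perp B X)) c b) : Smi B c (glue h a b) := by
  intro u v
  obtain ⟨x, y, rfl⟩ := exists_add h u
  obtain ⟨x', y', rfl⟩ := exists_add h v
  have h1 : B (a x) (b y') = 0 := mem_perp.1 (b y').2 _ (a x).2
  have h2 : B (b y) (a x') = 0 := by rw [hs]; exact mem_perp.1 (b y).2 _ (a x').2
  have h3 : B x y' = 0 := mem_perp.1 y'.2 _ x.2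
  have h4 : B y x' = 0 := by rw [hs]; exact mem_perp.1 y.2 _ x'.2
  have h5 : B (a x) (a x') = c * B x x' := ha x x'
  have h6 : B (b y) (b y') = c * B y y' := hb y y'
  rw [glue_add, glue_add]
  simp only [map_add, LinearMap.add_apply]
  rw [h1, h2, h3, h4, h5, h6]
  ring

/-- the restriction of an endomorphism to an invariant subspace -/
def res (s : V →ₗ[F] V) {X : Submodule F V} (h : H951.Inv s X) : X →ₗ[F] X := s.restrict h

theorem coe_res (s : V →ₗ[F] V) {X : Submodule F V} (h : H951.Inv s X) (x : X) :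
    ((res s h x : X) : V) = s x := rfl

theorem commute_glue {s : V →ₗ[F] V} {X Y : Submodule F V} (h : IsCompl X Y) (hX : H951.Inv s X)
    (hY : H951.Inv s Y) {a : X →ₗ[F] X} {b : Y →ₗ[F] Y} (ha : ∀ x, a (res s hX x) = res s hX (a x))
    (hb : ∀ y, b (res s hY y) = res s hY (b y)) (v : V) : glue h a b (s v) = s (glue h a b v) := by
  obtain ⟨x, y, rfl⟩ := exists_add h v
  have h1 : s ((x : V) + y) = (res s hX x : V) + (res s hY y : V) := by
    rw [map_add]; rfl
  rw [h1, glue_add, glue_add, ha, hb, map_add]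
  rfl

/-- the orthogonal space of an invariant subspace is invariant -/
theorem inv_perp [FiniteDimensional F V] {s : V →ₗ[F] V} (hB : Smi B 1 s) (hs : Function.Injective s)
    {X : Submodule F V} (hX : H951.Inv s X) : H951.Inv s (perp B X) := by
  intro y hy
  rw [mem_perp]
  intro x hx
  have h1 : X.map s = X := by
    apply Submodule.eq_of_le_of_finrank_eq (H951.inv_iff_map.1 hX)
    exact (Submodule.equivMapOfInjective s hs X).finrank_eq.symm
  rw [← h1] at hx
  obtain ⟨x', hx', rfl⟩ := hx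
  rw [hB, one_mul]
  exact mem_perp.1 hy x' hx'

end Cfsg.Agent.H204
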