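import Mathlib
import Cfsg.Agent.H469.IrrCyc
import Cfsg.Agent.H204.Glue

/-!
# The field generated by an irreducible operator (helper204)

`FA s K` : a field `K ⊇ F` acting on `U` by `φ`, `φ ζ = s`, `K = F[ζ]`, `k ↦ φ k u` bijective for `u ≠ 0`.
`exists_fa` : existence for an irreducible `s`.
`det_eq_norm`, `exists_adj`, and for an invariant symmetric nondegenerate form on `U` and `s² ≠ 1`:
`exists_conj` : `B (φ k u) v = B u (φ (k ^ q ^ d) v)` with `|K| = q ^ (2d)`.
-/

set_option autoImplicit false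

namespace Cfsg.Agent.H204

open Module Polynomial

universe u v

variable {F : Type u} {U : Type v} [Field F] [AddCommGroup U] [Module F U]

/-- A field `K` acting on `U`, regular on non-zero vectors, generated by `ζ ↦ s`. -/
structure FA (s : Module.End F U) (K : Type u) [Field K] [Algebra F K] where
  /-- the action -/
  φ : K →ₐ[F] Module.End F U
  /-- the generator -/
  ζ : K
  hζ : φ ζ = s
  bij : ∀ x : U, x ≠ 0 → Function.Bijective fun k => φ k x
  gen : ∀ k : K, ∃ f : F[X], k = aeval ζ f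

theorem exists_fa [FiniteDimensional F U] [Nontrivial U] (s : Module.End F U)
    (hirr : ∀ W : Submodule F U, (∀ w ∈ W, s w ∈ W) → W = ⊥ ∨ W = ⊤) :
    ∃ (K : Type u) (_ : Field K) (_ : Algebra F K), Module.Finite F K ∧ Nonempty (FA s K) := by
  have hp : Irreducible (minpoly F s) := H469.IrrCyc.minpoly_irreducible s hirr
  have : Fact (Irreducible (minpoly F s)) := ⟨hp⟩
  have hI : ∀ a : F[X], a ∈ Ideal.span {minpoly F s} → aeval s a = 0 := by
    intro a ha
    obtain ⟨b, rfl⟩ := Ideal.mem_span_singleton.1 ha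
    rw [map_mul, minpoly.aeval, zero_mul]
  let φ : AdjoinRoot (minpoly F s) →ₐ[F] Module.End F U := Ideal.Quotient.liftₐ _ (aeval s) hI
  have hφ : ∀ f : F[X], φ (AdjoinRoot.mk _ f) = aeval s f := fun f => rfl
  refine ⟨AdjoinRoot (minpoly F s), inferInstance, inferInstance,
    (AdjoinRoot.powerBasis hp.ne_zero).finite, ⟨⟨φ, AdjoinRoot.root _, ?_, ?_, ?_⟩⟩⟩
  · rw [← AdjoinRoot.mk_X, hφ, aeval_X]
  · intro x hx
    constructor
    · intro k k' h
      obtain ⟨f, rfl⟩ := AdjoinRoot.mk_surjective k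
      obtain ⟨f', rfl⟩ := AdjoinRoot.mk_surjective k'
      have h1 : aeval s (f - f') x = 0 := by
        rw [map_sub, LinearMap.sub_apply, ← hφ, ← hφ]
        exact sub_eq_zero.2 h
      have h2 := H469.IrrCyc.aeval_eq_zero s hirr hx h1
      have h3 : minpoly F s ∣ f - f' := minpoly.dvd F s h2
      exact AdjoinRoot.mk_eq_mk.2 h3
    · intro y
      obtain ⟨f, hf⟩ := H469.IrrCyc.orbMap_surjective s hirr hx y
      exact ⟨AdjoinRoot.mk _ f, by rw [← hf]; rfl⟩
  · intro k
    obtain ⟨f, rfl⟩ := AdjoinRoot.mk_surjective k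
    exact ⟨f, by rw [AdjoinRoot.aeval_eq]⟩

namespace FA

variable {s : Module.End F U} {K : Type u} [Field K] [Algebra F K] (D : FA s K)

theorem phi_inj [Nontrivial U] : Function.Injective D.φ := D.φ.toRingHom.injective

/-- `K ≃ U`. -/
noncomputable def eu {x : U} (hx : x ≠ 0) : K ≃ₗ[F] U :=
  LinearEquiv.ofBijective
    { toFun := fun k => D.φ k x
      map_add' := fun a b => by rw [map_add, LinearMap.add_apply]
      map_smul' := fun a b => by rw [map_smul, LinearMap.smul_apply, RingHom.id_apply] } (D.bij x hx)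

theorem eu_apply {x : U} (hx : x ≠ 0) (k : K) : D.eu hx k = D.φ k x := rfl

theorem det_eq_norm [FiniteDimensional F U] [Module.Finite F K] [Nontrivial U] (k : K) :
    LinearMap.det (D.φ k) = Algebra.norm F k := by
  obtain ⟨x, hx⟩ := exists_ne (0 : U)
  rw [Algebra.norm_apply, ← LinearMap.det_conj (Algebra.lmul F K k) (D.eu hx)]
  congr 1
  ext y
  obtain ⟨k', rfl⟩ := (D.eu hx).surjective y
  rw [LinearMap.comp_apply, LinearMap.comp_apply, LinearEquiv.coe_coe, LinearEquiv.coe_coe,
    LinearEquiv.symm_apply_apply, eu_apply, eu_apply, Algebra.coe_lmul_eq_mul,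
    LinearMap.mul_apply', map_mul]
  rfl

end FA

/-- Adjoints with respect to a pairing. -/
theorem exists_adj {U' : Type*} [AddCommGroup U'] [Module F U'] [FiniteDimensional F U]
    [FiniteDimensional F U'] (p : U →ₗ[F] U' →ₗ[F] F) (h1 : ∀ x, (∀ y, p x y = 0) → x = 0)
    (h2 : ∀ y, (∀ x, p x y = 0) → y = 0) (f : Module.End F U) :
    ∃ f' : Module.End F U', (∀ x y, p x (f' y) = p (f x) y) ∧ LinearMap.det f' = LinearMap.det f := by
  have i1 : Function.Injective p := by
    rw [← LinearMap.ker_eq_bot, LinearMap.ker_eq_bot']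
    intro x hx
    exact h1 x fun y => by rw [hx]; rfl
  have i2 : Function.Injective p.flip := by
    rw [← LinearMap.ker_eq_bot, LinearMap.ker_eq_bot']
    intro y hy
    exact h2 y fun x => by rw [← LinearMap.flip_apply, hy]; rfl
  have d1 := LinearMap.finrank_le_finrank_of_injective i1
  have d2 := LinearMap.finrank_le_finrank_of_injective i2
  have e1 : finrank F (U →ₗ[F] F) = finrank F U := Subspace.dual_finrank_eq
  have e2 : finrank F (U' →ₗ[F] F) = finrank F U' := Subspace.dual_finrank_eq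
  let e : U' ≃ₗ[F] Dual F U := LinearEquiv.ofInjectiveOfFinrankEq p.flip i2 (by
    change finrank F U' = finrank F (U →ₗ[F] F)
    omega)
  have he : ∀ x y, e y x = p x y := fun x y => rfl
  refine ⟨e.symm.toLinearMap ∘ₗ f.dualMap ∘ₗ e.symm.symm.toLinearMap, fun x y => ?_, ?_⟩
  · rw [← he, LinearMap.comp_apply, LinearMap.comp_apply, LinearEquiv.coe_coe,
      LinearEquiv.apply_symm_apply]
    rfl
  · rw [LinearMap.det_conj]
    exact LinearMap.det_dualMap f

theorem adj_unique {U' : Type*} [AddCommGroup U'] [Module F U'] {p : U →ₗ[F] U' →ₗ[F] F}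
    (h2 : ∀ y, (∀ x, p x y = 0) → y = 0) {f' f'' : Module.End F U'}
    (h : ∀ x y, p x (f' y) = p x (f'' y)) : f' = f'' := by
  ext y
  rw [← sub_eq_zero]
  apply h2
  intro x
  rw [map_sub, h, sub_self]

end Cfsg.Agent.H204
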