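import Mathlib
import Cfsg.Agent.H204.SelfDual
import Cfsg.Agent.H204.FieldCount

/-!
# Torus elements: the irreducible case (helper204)

`Pc B s` : the space has dimension `2 d`, for each `c ≠ 0` there is `g` commuting with `s`, multiplying `B` by `c`
with `det g = c ^ d`, and there is an isometry `t` commuting with `s`, `det t = 1`, generating a group of even order
`N` acting semiregularly on the non-zero vectors such that `#{x ≠ 0 | B x x = a} = N m`, `m` odd iff `a ≠ 0`.
* `pc_irr` : an irreducible isometry `s`, `s² ≠ 1`.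
-/

set_option autoImplicit false

namespace Cfsg.Agent.H204

open Module Polynomial

universe u v

/-- see the head of the file -/
structure Pc {F : Type u} {U : Type v} [Field F] [AddCommGroup U] [Module F U]
    (B : LinearMap.BilinForm F U) (s : Module.End F U) : Prop where
  sim : ∃ d, finrank F U = 2 * d ∧ ∀ c : F, c ≠ 0 → ∃ g : Module.End F U,
    Smi B c g ∧ (∀ x, g (s x) = s (g x)) ∧ LinearMap.det g = c ^ d
  tor : ∃ (t : Module.End F U) (N : ℕ), Even N ∧ 0 < N ∧ Smi B 1 t ∧ (∀ x, t (s x) = s (t x)) ∧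
    LinearMap.det t = 1 ∧ t ^ N = 1 ∧ (∀ x : U, x ≠ 0 → ∀ j : ℕ, (t ^ j) x = x → N ∣ j) ∧
    ∀ a : F, ∃ m, Nat.card {x : U // x ≠ 0 ∧ B x x = a} = N * m ∧ (Odd m ↔ a ≠ 0)

variable {F : Type u} {U : Type v} [Field F] [AddCommGroup U] [Module F U]

theorem two_ne_zero_of_odd [Fintype F] (ho : Odd (Fintype.card F)) : (2 : F) ≠ 0 := by
  intro h
  have h1 : (1 : F) + 1 = 0 := by rw [one_add_one_eq_two]; exact h
  have h2 : addOrderOf (1 : F) ∣ 2 := by
    rw [addOrderOf_dvd_iff_nsmul_eq_zero, two_nsmul]; exact h1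
  have h3 : addOrderOf (1 : F) ∣ Fintype.card F := addOrderOf_dvd_card
  have h4 : addOrderOf (1 : F) ∣ 1 := by
    have := Nat.dvd_gcd h2 h3
    rwa [(Nat.coprime_two_left.2 ho).gcd_eq_one] at this
  have h5 : addOrderOf (1 : F) = 1 := Nat.dvd_one.1 h4
  exact one_ne_zero (AddMonoid.addOrderOf_eq_one_iff.1 h5)

theorem pc_irr [Fintype F] [FiniteDimensional F U] [Nontrivial U] (ho : Odd (Fintype.card F))
    {s : Module.End F U} {B : LinearMap.BilinForm F U}
    (hirr : ∀ W : Submodule F U, (∀ w ∈ W, s w ∈ W) → W = ⊥ ∨ W = ⊤)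
    (hs : Function.Injective s) (hn : Nd B) (hsy : Sy B) (hB : Smi B 1 s) (h2 : s * s ≠ 1) :
    Pc B s := by
  have h2F := two_ne_zero_of_odd ho
  obtain ⟨K, iK, iA, iF, ⟨D⟩⟩ := exists_fa s hirr
  have iFK : Finite K := Module.finite_of_finite F
  have iFt : Fintype K := Fintype.ofFinite K
  obtain ⟨d, hd, hK, hτ⟩ := exists_conj D hs hn hsy hB h2
  obtain ⟨u₀, hu₀⟩ := exists_ne (0 : U)
  have hfr : finrank F U = 2 * d := by rw [← hK, (D.eu hu₀).finrank_eq]
  set Q := Fintype.card F ^ d with hQ
  have h1Q : 1 < Q := one_lt_Q hd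
  have hcomm : ∀ (k : K) (x : U), D.φ k (s x) = s (D.φ k x) := by
    intro k x
    have h1 : D.φ k * D.φ D.ζ = D.φ D.ζ * D.φ k := by rw [← map_mul, mul_comm, map_mul]
    rw [D.hζ] at h1
    exact LinearMap.congr_fun h1 x
  have hsmi : ∀ (k : K) (c : F), k ^ (Q + 1) = algebraMap F K c → Smi B c (D.φ k) := by
    intro k c hk x y
    rw [hτ, ← Module.End.mul_apply, ← map_mul, ← pow_succ, hk, AlgHom.commutes,
      Module.algebraMap_end_apply, map_smul, smul_eq_mul]
  have hdet : ∀ (k : K) (c : F), k ^ (Q + 1) = algebraMap F K c →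
      LinearMap.det (D.φ k) = c ^ d := by
    intro k c hk
    rw [D.det_eq_norm, norm_of_pow hK hk]
  refine ⟨⟨d, hfr, fun c hc => ?_⟩, ?_⟩
  · obtain ⟨k, hk⟩ := exists_pow_succ hK hd (z := algebraMap F K c)
      ((_root_.map_ne_zero _).2 hc) (algebraMap_pow_card c d)
    exact ⟨D.φ k, hsmi k c hk, hcomm k, hdet k c hk⟩
  · obtain ⟨t, ht, ht'⟩ := exists_torus_gen (F := F) (K := K) hK
    have ht1 : t ^ (Q + 1) = algebraMap F K 1 := by rw [map_one]; exact ht
    refine ⟨D.φ t, Q + 1, (ho.pow).add_odd odd_one, by omega, hsmi t 1 ht1, hcomm t,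
      by rw [hdet t 1 ht1, one_pow], by rw [← map_pow, ht, map_one], ?_, ?_⟩
    · intro x hx j hj
      rw [← map_pow] at hj
      have h3 : t ^ j = 1 := (D.bij x hx).1 (by
        change D.φ (t ^ j) x = D.φ 1 x
        rw [hj, map_one]; rfl)
      exact (ht' j).1 h3
    · intro a
      let l : K →ₗ[F] F := (B u₀) ∘ₗ (D.eu hu₀).toLinearMap
      have hl : ∀ k, l k = B u₀ (D.φ k u₀) := fun k => rfl
      have hl0 : ∃ z ∈ fixedSub F K d, l z ≠ 0 := by
        by_contra hcon
        push Not at hcon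
        have h3 : ∀ k : K, l k = 0 := by
          intro k
          have h4 : l (k ^ Q) = l k := by
            rw [hl, hl, hQ, ← hτ, hsy]
          have h5 : k + k ^ Q ∈ fixedSub F K d := by
            rw [mem_fixedSub]
            have h6 : (k ^ Q) ^ Q = k := by
              have h7 : Fintype.card K = Q * Q := by
                rw [← Nat.card_eq_fintype_card]; exact card_K hK
              rw [← pow_mul, ← h7, FiniteField.pow_card]
            have h8 : (k + k ^ Q) ^ Q = k ^ Q + (k ^ Q) ^ Q := by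
              have := map_add ((FiniteField.frobeniusAlgHom F K) ^ d) k (k ^ Q)
              simpa only [AlgHom.coe_pow, FiniteField.coe_frobeniusAlgHom, pow_iterate] using this
            rw [← hQ, h8, h6, add_comm]
          have h9 := hcon _ h5
          rw [map_add, h4, ← two_mul] at h9
          exact (mul_eq_zero.1 h9).resolve_left h2F
        apply hu₀
        apply hn
        intro y
        obtain ⟨k, rfl⟩ := (D.eu hu₀).surjective y
        exact h3 k
      obtain ⟨m, hm, hm'⟩ := card_pow_fiber ho hK hd l hl0 a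
      refine ⟨m, ?_, hm'⟩
      rw [← hm]
      apply Nat.card_congr
      refine
        { toFun := fun x => ⟨(D.eu hu₀).symm x.1, ?_, ?_⟩
          invFun := fun k => ⟨D.eu hu₀ k.1, ?_, ?_⟩
          left_inv := fun x => Subtype.ext ((D.eu hu₀).apply_symm_apply _)
          right_inv := fun k => Subtype.ext ((D.eu hu₀).symm_apply_apply _) }
      · intro h
        exact x.2.1 ((LinearEquiv.map_eq_zero_iff _).1 h)
      · obtain ⟨x, hx0, hx⟩ := x
        obtain ⟨k, rfl⟩ := (D.eu hu₀).surjective x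
        rw [LinearEquiv.symm_apply_apply, hl, pow_succ, map_mul, Module.End.mul_apply, ← hτ]
        exact hx
      · intro h
        exact k.2.1 ((LinearEquiv.map_eq_zero_iff _).1 h)
      · obtain ⟨k, hk0, hk⟩ := k
        rw [hl, pow_succ, map_mul, Module.End.mul_apply, ← hτ] at hk
        exact hk

end Cfsg.Agent.H204
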