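import Mathlib
import Cfsg.Agent.H204.PieceIrr

/-!
# Torus elements: a pair of totally singular subspaces (helper204)

* `pc_pair` : `V = U ⊕ U'`, both totally singular and invariant, `U` irreducible: `Pc B s`.
-/

set_option autoImplicit false

namespace Cfsg.Agent.H204

open Module Polynomial

universe u v

variable {F : Type u} [Field F]

theorem finrank_eq_of_pairing {U U' : Type*} [AddCommGroup U] [Module F U] [AddCommGroup U']
    [Module F U'] [FiniteDimensional F U]
    [FiniteDimensional F U'] (p : U →ₗ[F] U' →ₗ[F] F) (h1 : ∀ x, (∀ y, p x y = 0) → x = 0)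
    (h2 : ∀ y, (∀ x, p x y = 0) → y = 0) : finrank F U = finrank F U' := by
  have i1 : Function.Injective p := by
    rw [← LinearMap.ker_eq_bot, LinearMap.ker_eq_bot']
    intro x hx
    exact h1 x fun y => by rw [hx]; rfl
  have i2 : Function.Injective p.flip := by
    rw [← LinearMap.ker_eq_bot, LinearMap.ker_eq_bot']
    intro y hy
    exact h2 y fun x => by rw [← LinearMap.flip_apply, hy]; rfl
  have d1 := LinearMap.finrank_le_finrank_of_injective i1
  have d2 := LinearMap.finrank_le_finrank_of_injective i2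
  have e1 : finrank F (U →ₗ[F] F) = finrank F U := Subspace.dual_finrank_eq
  have e2 : finrank F (U' →ₗ[F] F) = finrank F U' := Subspace.dual_finrank_eq
  omega

/-- the fibres of a nonzero linear form -/
theorem card_fiber [Fintype F] {V : Type*} [AddCommGroup V] [Module F V]
    [FiniteDimensional F V] (l : V →ₗ[F] F) (hl : l ≠ 0) (a : F) :
    Nat.card {v : V // l v = a} = Fintype.card F ^ (finrank F V - 1) := by
  have : Finite V := Module.finite_of_finite F
  obtain ⟨v₀, hv₀⟩ := LinearMap.surjective hl a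
  have e : {v : V // l v = a} ≃ LinearMap.ker l :=
    { toFun := fun v => ⟨v.1 - v₀, by rw [LinearMap.mem_ker, map_sub, v.2, hv₀, sub_self]⟩
      invFun := fun v => ⟨v.1 + v₀, by rw [map_add, LinearMap.mem_ker.1 v.2, hv₀, zero_add]⟩
      left_inv := fun v => Subtype.ext (sub_add_cancel _ _)
      right_inv := fun v => Subtype.ext (add_sub_cancel_right _ _) }
  rw [Nat.card_congr e, Module.natCard_eq_pow_finrank (K := F), Nat.card_eq_fintype_card]
  congr 1
  have h1 := LinearMap.finrank_range_add_finrank_ker l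
  rw [LinearMap.range_eq_top.2 (LinearMap.surjective hl), finrank_top, finrank_self] at h1
  omega

/-- counting in a hyperbolic pair -/
theorem card_pair [Fintype F] (ho : Odd (Fintype.card F)) {U U' : Type*} [AddCommGroup U]
    [Module F U] [AddCommGroup U'] [Module F U'] [FiniteDimensional F U]
    [FiniteDimensional F U'] (p : U →ₗ[F] U' →ₗ[F] F) (h1 : ∀ x, (∀ y, p x y = 0) → x = 0)
    (h2 : ∀ y, (∀ x, p x y = 0) → y = 0) (a : F) :
    ∃ m, Nat.card {x : U × U' // x ≠ 0 ∧ 2 * p x.1 x.2 = a} = (Nat.card U - 1) * m ∧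
      (Odd m ↔ a ≠ 0) := by
  classical
  have h2F := two_ne_zero_of_odd ho
  have hUf : Finite U := Module.finite_of_finite F
  have hUf' : Finite U' := Module.finite_of_finite F
  have := Fintype.ofFinite U
  have := Fintype.ofFinite U'
  have hfr := finrank_eq_of_pairing p h1 h2
  have hcard : Nat.card U = Nat.card U' := by
    rw [Module.natCard_eq_pow_finrank (K := F), Module.natCard_eq_pow_finrank (K := F) (V := U'), hfr]
  set M := Fintype.card F ^ (finrank F U' - 1) with hM
  have hfib : ∀ x : U, x ≠ 0 → Nat.card {y : U' // 2 * p x y = a} = M := by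
    intro x hx
    have hl : (2 : F) • p x ≠ 0 := by
      rw [smul_ne_zero_iff]
      refine ⟨h2F, fun h => hx (h1 x fun y => by rw [h]; rfl)⟩
    exact card_fiber ((2 : F) • p x) hl a
  have hS : Nat.card {x : U × U' // x ≠ 0 ∧ 2 * p x.1 x.2 = a} =
      ∑ x : U, Nat.card {y : U' // (x, y) ≠ 0 ∧ 2 * p x y = a} := by
    have e : {x : U × U' // x ≠ 0 ∧ 2 * p x.1 x.2 = a} ≃
        Σ x : U, {y : U' // (x, y) ≠ 0 ∧ 2 * p x y = a} :=
      { toFun := fun z => ⟨z.1.1, z.1.2, z.2⟩
        invFun := fun z => ⟨(z.1, z.2.1), z.2.2⟩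
        left_inv := fun z => rfl
        right_inv := fun z => rfl }
    rw [Nat.card_congr e, Nat.card_sigma]
  have h0 : Nat.card {y : U' // ((0 : U), y) ≠ 0 ∧ 2 * p 0 y = a} =
      (Nat.card U - 1) * (if a = 0 then 1 else 0) := by
    split_ifs with ha
    · rw [mul_one, hcard]
      have e : {y : U' // ((0 : U), y) ≠ 0 ∧ 2 * p 0 y = a} ≃ {y : U' // y ≠ 0} :=
        { toFun := fun y => ⟨y.1, fun h => y.2.1 (by rw [h]; rfl)⟩
          invFun := fun y => ⟨y.1, fun h => y.2 (congrArg Prod.snd h), by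
            rw [map_zero, LinearMap.zero_apply, mul_zero, ha]⟩
          left_inv := fun y => rfl
          right_inv := fun y => rfl }
      rw [Nat.card_congr e, Nat.card_eq_fintype_card, Nat.card_eq_fintype_card,
        Fintype.card_subtype_compl]
      simp
    · rw [mul_zero]
      have : IsEmpty {y : U' // ((0 : U), y) ≠ 0 ∧ 2 * p 0 y = a} := ⟨fun y => ha (by
        obtain ⟨y, -, hy⟩ := y
        rw [map_zero, LinearMap.zero_apply, mul_zero] at hy
        exact hy.symm)⟩
      exact Nat.card_of_isEmpty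
  refine ⟨M + if a = 0 then 1 else 0, ?_, ?_⟩
  · rw [hS, ← Finset.sum_erase_add _ _ (Finset.mem_univ (0 : U)), h0, mul_add]
    congr 1
    rw [Finset.sum_congr rfl (g := fun _ => M), Finset.sum_const, Finset.card_erase_of_mem
      (Finset.mem_univ _), smul_eq_mul, Finset.card_univ, Nat.card_eq_fintype_card]
    intro x hx
    have hx0 : x ≠ 0 := (Finset.mem_erase.1 hx).1
    rw [← hfib x hx0]
    apply Nat.card_congr
    exact
      { toFun := fun y => ⟨y.1, y.2.2⟩
        invFun := fun y => ⟨y.1, fun h => hx0 (congrArg Prod.fst h), y.2⟩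
        left_inv := fun y => rfl
        right_inv := fun y => rfl }
  · have hMo : Odd M := ho.pow
    by_cases ha : a = 0
    · rw [if_pos ha]
      simp only [ha, ne_eq, not_true_eq_false, iff_false]
      exact Nat.not_odd_iff_even.2 (hMo.add_odd odd_one)
    · rw [if_neg ha, add_zero]
      exact ⟨fun _ => ha, fun _ => hMo⟩

section Tor

variable {U U' : Type v} [AddCommGroup U] [Module F U] [AddCommGroup U'] [Module F U']
  [FiniteDimensional F U] [FiniteDimensional F U']

/-- the torus of a pair in duality -/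
theorem exists_tor [Fintype F] [Nontrivial U] (ho : Odd (Fintype.card F))
    (p : U →ₗ[F] U' →ₗ[F] F) (h1 : ∀ x, (∀ y, p x y = 0) → x = 0)
    (h2 : ∀ y, (∀ x, p x y = 0) → y = 0) (s₁ : Module.End F U) (s₂ : Module.End F U')
    (hps : ∀ x y, p (s₁ x) (s₂ y) = p x y)
    (hirr : ∀ W : Submodule F U, (∀ w ∈ W, s₁ w ∈ W) → W = ⊥ ∨ W = ⊤) :
    ∃ (w₁ : Module.End F U) (w₂ : Module.End F U'), Even (Nat.card U - 1) ∧ 0 < Nat.card U - 1 ∧
      (∀ x y, p (w₁ x) (w₂ y) = p x y) ∧ (∀ x, w₁ (s₁ x) = s₁ (w₁ x)) ∧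
      (∀ y, w₂ (s₂ y) = s₂ (w₂ y)) ∧ LinearMap.det w₁ * LinearMap.det w₂ = 1 ∧
      w₁ ^ (Nat.card U - 1) = 1 ∧ w₂ ^ (Nat.card U - 1) = 1 ∧
      ∀ (j : ℕ) x y, (w₁ ^ j) x = x → (w₂ ^ j) y = y → (x ≠ 0 ∨ y ≠ 0) → Nat.card U - 1 ∣ j := by
  obtain ⟨K, iK, iA, iF, ⟨D⟩⟩ := exists_fa s₁ hirr
  have iFK : Finite K := Module.finite_of_finite F
  obtain ⟨u₀, hu₀⟩ := exists_ne (0 : U)
  have hcardK : Nat.card U = Nat.card K := (Nat.card_congr (D.eu hu₀).toEquiv).symm
  obtain ⟨w, hw⟩ := IsCyclic.exists_generator (α := Kˣ)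
  have how : orderOf w = Nat.card U - 1 := by
    rw [orderOf_eq_card_of_forall_mem_zpowers hw, Nat.card_units, hcardK]
  have hcomm : ∀ (k : K) (x : U), D.φ k (s₁ x) = s₁ (D.φ k x) := by
    intro k x
    have h1 : D.φ k * D.φ D.ζ = D.φ D.ζ * D.φ k := by rw [← map_mul, mul_comm, map_mul]
    rw [D.hζ] at h1
    exact LinearMap.congr_fun h1 x
  obtain ⟨t', ht', hdet'⟩ := exists_adj p h1 h2 (D.φ ((w⁻¹ : Kˣ) : K))
  set w₁ : Module.End F U := D.φ (w : K) with hw₁
  set wi : Module.End F U := D.φ ((w⁻¹ : Kˣ) : K) with hwi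
  have hww : ∀ x, wi (w₁ x) = x := by
    intro x
    rw [hwi, hw₁, ← Module.End.mul_apply, ← map_mul, Units.inv_mul, map_one, Module.End.one_apply]
  have hww2 : w₁ * wi = 1 := by rw [hwi, hw₁, ← map_mul, Units.mul_inv, map_one]
  have hpt : ∀ x y, p (w₁ x) (t' y) = p x y := by
    intro x y
    rw [ht', hww]
  -- `s` is surjective on `U`
  have hsurj : Function.Surjective s₁ := by
    apply LinearMap.surjective_of_injective
    rw [← LinearMap.ker_eq_bot, LinearMap.ker_eq_bot']
    intro x hx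
    apply h1
    intro y
    rw [← hps, hx, map_zero, LinearMap.zero_apply]
  have hcomm' : ∀ y : U', t' (s₂ y) = s₂ (t' y) := by
    intro y
    rw [← sub_eq_zero]
    apply h2
    intro x
    obtain ⟨x, rfl⟩ := hsurj x
    rw [map_sub, ht', hcomm, hps, hps, ht', sub_self]
  have hN0 : 0 < Nat.card U - 1 := by
    have := Finite.one_lt_card (α := K)
    omega
  have hNe : Even (Nat.card U - 1) := by
    have : Finite U := Module.finite_of_finite F
    exact Nat.Odd.sub_odd (odd_card_module ho U) odd_one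
  have hpj : ∀ (j : ℕ) x y, p ((w₁ ^ j) x) ((t' ^ j) y) = p x y := by
    intro j
    induction j with
    | zero => intro x y; rw [pow_zero, pow_zero]; rfl
    | succ j ih =>
      intro x y
      rw [pow_succ, pow_succ, Module.End.mul_apply, Module.End.mul_apply, ih, hpt]
  have hwj : ∀ j : ℕ, w₁ ^ j = D.φ ((w : K) ^ j) := by
    intro j
    rw [map_pow]
  have hK1 : ∀ j : ℕ, (w : K) ^ j = 1 ↔ Nat.card U - 1 ∣ j := by
    intro j
    rw [← how, orderOf_dvd_iff_pow_eq_one, ← Units.val_pow_eq_pow_val, Units.val_eq_one]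
  have ht1 : ∀ j : ℕ, (w : K) ^ j = 1 → t' ^ j = 1 := by
    intro j hj
    ext1 y
    rw [← sub_eq_zero]
    apply h2
    intro x
    have h3 := hpj j x y
    rw [hwj, hj, map_one] at h3
    rw [map_sub, sub_eq_zero]
    exact h3
  refine ⟨w₁, t', hNe, hN0, hpt, hcomm _, hcomm', ?_, ?_, ?_, ?_⟩
  · rw [hdet', ← map_mul, hww2, map_one]
  · rw [hwj, (hK1 _).2 dvd_rfl, map_one]
  · exact ht1 _ ((hK1 _).2 dvd_rfl)
  · intro j x y hx hy hxy
    rw [hwj] at hx
    by_cases hx0 : x = 0
    · have hy0 : y ≠ 0 := by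
        rcases hxy with h | h
        · exact absurd hx0 h
        · exact h
      by_contra hnd
      apply hy0
      apply h2
      intro z
      have hne : (w : K) ^ j - 1 ≠ 0 := fun h => hnd ((hK1 j).1 (sub_eq_zero.1 h))
      have h6 : z = D.φ ((w : K) ^ j - 1) (D.φ ((w : K) ^ j - 1)⁻¹ z) := by
        rw [← Module.End.mul_apply, ← map_mul, mul_inv_cancel₀ hne, map_one]; rfl
      rw [h6]
      generalize D.φ ((w : K) ^ j - 1)⁻¹ z = z'
      rw [map_sub, LinearMap.sub_apply, map_sub, map_one, Module.End.one_apply,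
        LinearMap.sub_apply]
      have h7 := hpj j z' y
      rw [hy, hwj] at h7
      rw [h7, sub_self]
    · have h8 : (w : K) ^ j = 1 := (D.bij x hx0).1 (by
        change D.φ ((w : K) ^ j) x = D.φ 1 x
        rw [hx, map_one]; rfl)
      exact (hK1 j).1 h8

end Tor

section Pair

variable {V : Type v} [AddCommGroup V] [Module F V]

theorem irr_res {s : Module.End F V} {U : Submodule F V} (hU : H951.Irr s U)
    (W : Submodule F U) (hW : ∀ w ∈ W, res s hU.2.1 w ∈ W) : W = ⊥ ∨ W = ⊤ := by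
  have h3 : H951.Inv s (W.map U.subtype) := by
    rintro _ ⟨w, hw, rfl⟩
    exact ⟨res s hU.2.1 w, hW w hw, rfl⟩
  rcases hU.2.2 _ (Submodule.map_subtype_le _ _) h3 with h4 | h4
  · left
    rw [eq_bot_iff]
    intro x hx
    have h5 : (x : V) ∈ W.map U.subtype := ⟨x, hx, rfl⟩
    rw [h4, Submodule.mem_bot] at h5
    exact Subtype.ext h5
  · right
    rw [eq_top_iff]
    intro x _
    have h5 : (x : V) ∈ W.map U.subtype := by rw [h4]; exact x.2
    obtain ⟨y, hy, hyx⟩ := h5
    have h6 : y = x := Subtype.ext hyx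
    rwa [← h6]

theorem glue_pow {X Y : Submodule F V} (h : IsCompl X Y) (a : X →ₗ[F] X) (b : Y →ₗ[F] Y)
    (j : ℕ) (x : X) (y : Y) : ((glue h a b) ^ j) ((x : V) + y) = ((a ^ j) x : V) + (b ^ j) y := by
  induction j generalizing x y with
  | zero => rfl
  | succ j ih =>
    rw [pow_succ, Module.End.mul_apply, glue_add, ih, pow_succ, pow_succ]
    rfl

theorem add_eq_add_of_isCompl {X Y : Submodule F V} (h : IsCompl X Y) {x x' : X} {y y' : Y}
    (e : (x : V) + y = x' + y') : x = x' ∧ y = y' := by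
  have h4 : ((x - x' : X) : V) = ((y' - y : Y) : V) := by
    rw [Submodule.coe_sub, Submodule.coe_sub, sub_eq_sub_iff_add_eq_add, e, add_comm]
  have h5 : ((x - x' : X) : V) ∈ X ⊓ Y := ⟨(x - x').2, by rw [h4]; exact (y' - y).2⟩
  rw [h.inf_eq_bot, Submodule.mem_bot] at h5
  rw [h5] at h4
  exact ⟨sub_eq_zero.1 (Subtype.ext h5), (sub_eq_zero.1 (Subtype.ext h4.symm)).symm⟩

theorem pc_pair [Fintype F] [FiniteDimensional F V] (ho : Odd (Fintype.card F))
    {s : Module.End F V} {B : LinearMap.BilinForm F V} (hn : Nd B)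
    (hsy : Sy B) (hB : Smi B 1 s) {U U' : Submodule F V} (hc : IsCompl U U')
    (hU : H951.Irr s U) (hU' : H951.Inv s U') (h0 : ∀ x ∈ U, ∀ y ∈ U, B x y = 0)
    (h0' : ∀ x ∈ U', ∀ y ∈ U', B x y = 0) : Pc B s := by
  have h2F := two_ne_zero_of_odd ho
  obtain ⟨p, hp⟩ : ∃ p : U →ₗ[F] U' →ₗ[F] F, ∀ (x : U) (y : U'), p x y = B x y :=
    ⟨B.domRestrict₁₂ U U', fun x y => rfl⟩
  have h1 : ∀ x, (∀ y, p x y = 0) → x = 0 := by
    intro x hx
    apply Subtype.ext
    apply hn
    intro v
    obtain ⟨y, y', rfl⟩ := exists_add hc v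
    rw [map_add, h0 _ x.2 _ y.2, zero_add, ← hp]
    exact hx y'
  have h2 : ∀ y, (∀ x, p x y = 0) → y = 0 := by
    intro y hy
    apply Subtype.ext
    apply hn
    intro v
    obtain ⟨x, x', rfl⟩ := exists_add hc v
    rw [map_add, h0' _ y.2 _ x'.2, add_zero, hsy, ← hp]
    exact hy x
  have hfr := finrank_eq_of_pairing p h1 h2
  have hfr2 : finrank F V = 2 * finrank F U := by
    have := Submodule.finrank_add_eq_of_isCompl hc
    omega
  have hBadd : ∀ (x y : U) (x' y' : U'), B ((x : V) + x') ((y : V) + y') = p x y' + p y x' := by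
    intro x y x' y'
    rw [hp, hp, map_add, map_add, LinearMap.add_apply, LinearMap.add_apply,
      h0 _ x.2 _ y.2, h0' _ x'.2 _ y'.2, hsy (x' : V) y]
    ring
  have hUi : H951.Inv s U := hU.2.1
  have hUne : Nontrivial U := (Submodule.nontrivial_iff_ne_bot).2 hU.1
  have hps : ∀ x y, p (res s hUi x) (res s hU' y) = p x y := by
    intro x y
    rw [hp, hp, coe_res, coe_res, hB, one_mul]
  refine ⟨⟨finrank F U, hfr2, fun c hc0 => ?_⟩, ?_⟩
  · refine ⟨glue hc (c • LinearMap.id) LinearMap.id, ?_, ?_, ?_⟩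
    · intro u v
      obtain ⟨x, x', rfl⟩ := exists_add hc u
      obtain ⟨y, y', rfl⟩ := exists_add hc v
      rw [glue_add, glue_add, hBadd, hBadd]
      simp only [LinearMap.smul_apply, LinearMap.id_apply, map_smul, smul_eq_mul]
      ring
    · refine commute_glue hc hUi hU' (fun x => ?_) (fun y => rfl)
      rw [LinearMap.smul_apply, LinearMap.smul_apply, map_smul]
      rfl
    · rw [det_glue, LinearMap.det_smul, LinearMap.det_id, LinearMap.det_id, mul_one, mul_one]
  · obtain ⟨w₁, w₂, hNe, hN0, hpw, hc1, hc2, hdet, hw1, hw2, hsr⟩ :=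
      exists_tor ho p h1 h2 (res s hUi) (res s hU') hps (irr_res hU)
    refine ⟨glue hc w₁ w₂, Nat.card U - 1, hNe, hN0, ?_, ?_, ?_, ?_, ?_, ?_⟩
    · intro u v
      obtain ⟨x, x', rfl⟩ := exists_add hc u
      obtain ⟨y, y', rfl⟩ := exists_add hc v
      rw [glue_add, glue_add, hBadd, hBadd, hpw, hpw, one_mul]
    · exact commute_glue hc hUi hU' hc1 hc2
    · rw [det_glue, hdet]
    · ext1 v
      obtain ⟨x, y, rfl⟩ := exists_add hc v
      rw [glue_pow, hw1, hw2]
      rfl
    · intro v hv j hj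
      obtain ⟨x, y, rfl⟩ := exists_add hc v
      rw [glue_pow] at hj
      obtain ⟨h3, h4⟩ := add_eq_add_of_isCompl hc hj
      refine hsr j x y h3 h4 ?_
      by_contra hcon
      push Not at hcon
      apply hv
      rw [hcon.1, hcon.2, Submodule.coe_zero, Submodule.coe_zero, add_zero]
    · intro a
      obtain ⟨m, hm, hm'⟩ := card_pair ho p h1 h2 a
      refine ⟨m, ?_, hm'⟩
      rw [← hm]
      obtain ⟨e, he⟩ : ∃ e : (U × U') ≃ₗ[F] V, ∀ z, e z = (z.1 : V) + z.2 :=
        ⟨Submodule.prodEquivOfIsCompl U U' hc, fun z => rfl⟩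
      have he' : ∀ z : U × U', B (e z) (e z) = 2 * p z.1 z.2 := by
        intro z
        rw [he, hBadd, two_mul]
      apply Nat.card_congr
      exact (e.toEquiv.subtypeEquiv fun z => by
        change (z ≠ 0 ∧ 2 * p z.1 z.2 = a) ↔ (e z ≠ 0 ∧ B (e z) (e z) = a)
        rw [he', Ne, Ne, LinearEquiv.map_eq_zero_iff]).symm

end Pair

end Cfsg.Agent.H204
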