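import Mathlib
import Cfsg.Agent.H204.PiecePair

/-!
# An invariant nondegenerate subspace with a torus (helper204)

* `exists_piece` : `s ≠ 1` an isometry of odd order `r`, `r ≠ 0` in `F`: an invariant nondegenerate `X ≠ 0` with
  `Pc (B|X) (s|X)`;
* `exists_sim` : if `dim V` is even, for each `c ≠ 0` there is `g` commuting with `s`, multiplying `B` by `c`, with
  `det g = c ^ (dim V / 2)`.
-/

set_option autoImplicit false

namespace Cfsg.Agent.H204

open Module Polynomial

universe u v

variable {F : Type u} [Field F] {V : Type v} [AddCommGroup V] [Module F V]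

theorem injective_of_smi {B : LinearMap.BilinForm F V} {s : Module.End F V} (hn : Nd B)
    (hB : Smi B 1 s) : Function.Injective s := by
  rw [← LinearMap.ker_eq_bot, LinearMap.ker_eq_bot']
  intro x hx
  apply hn
  intro y
  have h := hB x y
  rw [hx, map_zero, LinearMap.zero_apply, one_mul] at h
  exact h.symm

theorem eq_bot_or_of_irr {s : Module.End F V} {U W : Submodule F V} (hU : H951.Irr s U)
    (hW : H951.Inv s W) : U ⊓ W = ⊥ ∨ U ≤ W := by
  rcases hU.2.2 (U ⊓ W) inf_le_left (hU.2.1.inf hW) with h | h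
  · exact Or.inl h
  · exact Or.inr (inf_eq_left.1 h)

theorem nd_restrict_of_inf {B : LinearMap.BilinForm F V} (hsy : Sy B) {U : Submodule F V}
    (h : U ⊓ perp B U = ⊥) : Nd (B.restrict U) := by
  intro x hx
  apply Subtype.ext
  have h1 : (x : V) ∈ U ⊓ perp B U := by
    refine ⟨x.2, mem_perp.2 fun y hy => ?_⟩
    rw [hsy]
    exact hx ⟨y, hy⟩
  rwa [h, Submodule.mem_bot] at h1

theorem perp_fx_cm {B : LinearMap.BilinForm F V} {s : Module.End F V} (hB : Smi B 1 s) {x y : V}
    (hx : x ∈ H951.fx s) (hy : y ∈ H951.cm s) : B x y = 0 := by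
  obtain ⟨w, rfl⟩ := H951.mem_cm.1 hy
  rw [map_sub, sub_eq_zero]
  conv_lhs => rw [← H951.mem_fx.1 hx]
  rw [hB, one_mul]

theorem exists_piece [Fintype F] [FiniteDimensional F V] (ho : Odd (Fintype.card F))
    {B : LinearMap.BilinForm F V} (hn : Nd B) (hsy : Sy B) {s : Module.End F V} (hB : Smi B 1 s)
    {r : ℕ} (hro : Odd r) (hr : (r : F) ≠ 0) (hsr : s ^ r = 1) (hs1 : s ≠ 1) :
    ∃ (X : Submodule F V) (hX : H951.Inv s X), X ≠ ⊥ ∧ IsCompl X (perp B X) ∧
      Pc (B.restrict X) (res s hX) := by
  have hinj := injective_of_smi hn hB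
  have hss : s.IsSemisimple := H951.semisimple_of_pow hr hsr
  have hcompl := H951.isCompl_fx_cm hr hsr
  have hcm : H951.cm s ≠ ⊥ := by
    intro h
    apply hs1
    ext v
    have h1 : s v - v ∈ H951.cm s := H951.mem_cm.2 ⟨v, rfl⟩
    rw [h, Submodule.mem_bot] at h1
    exact sub_eq_zero.1 h1
  by_cases hcase : ∃ U, H951.Irr s U ∧ U ≤ H951.cm s ∧ U ⊓ perp B U = ⊥
  · obtain ⟨U, hU, hUc, hUp⟩ := hcase
    have hnd := nd_restrict_of_inf hsy hUp
    refine ⟨U, hU.2.1, hU.1, isCompl_perp hsy hnd, ?_⟩
    have : Nontrivial U := (Submodule.nontrivial_iff_ne_bot).2 hU.1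
    refine pc_irr ho (irr_res hU) (fun x y h => ?_) hnd (hsy.restrict U) (fun x y => hB x y) ?_
    · exact Subtype.ext (hinj (congrArg Subtype.val h))
    · intro h2
      obtain ⟨x, hx⟩ := exists_ne (0 : U)
      have h3 : s (s x) = x := congrArg Subtype.val (LinearMap.congr_fun h2 x)
      obtain ⟨k, hk⟩ := hro
      have h4 : ∀ k : ℕ, (s ^ (2 * k)) (x : V) = x := by
        intro k
        induction k with
        | zero => rfl
        | succ k ih =>
          rw [mul_add, mul_one, pow_add, Module.End.mul_apply, pow_two, Module.End.mul_apply, h3, ih]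
      have h5 : s (x : V) = x := by
        have h6 : (s ^ r) (x : V) = x := by rw [hsr]; rfl
        rw [hk, pow_succ', Module.End.mul_apply, h4] at h6
        exact h6
      have h7 : (x : V) ∈ H951.fx s ⊓ H951.cm s := ⟨H951.mem_fx.2 h5, hUc x.2⟩
      rw [hcompl.inf_eq_bot, Submodule.mem_bot] at h7
      exact hx (Subtype.ext h7)
  · push Not at hcase
    have hiso : ∀ U, H951.Irr s U → U ≤ H951.cm s → ∀ x ∈ U, ∀ y ∈ U, B x y = 0 := by
      intro U hU hUc x hx y hy
      rcases eq_bot_or_of_irr hU (inv_perp hB hinj hU.2.1) with h | h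
      · exact absurd h (hcase U hU hUc)
      · exact mem_perp.1 (h hy) x hx
    obtain ⟨U, hUc, hU⟩ := H951.exists_irr (x := s) H951.inv_cm hcm
    have hUp : H951.Inv s (perp B U) := inv_perp hB hinj hU.2.1
    obtain ⟨T, hT, -, hT1, hT2⟩ := H951.exists_rel_compl hss hUp H951.inv_top le_top
    have hTne : T ≠ ⊥ := by
      rintro rfl
      rw [sup_bot_eq] at hT2
      apply hU.1
      rw [eq_bot_iff]
      intro x hx
      rw [Submodule.mem_bot]
      apply hn
      intro y
      have hy : y ∈ perp B U := by rw [hT2]; exact Submodule.mem_top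
      exact mem_perp.1 hy x hx
    obtain ⟨U', hU'T, hU'⟩ := H951.exists_irr (x := s) hT hTne
    have hU'p : U' ⊓ perp B U = ⊥ := by
      rw [eq_bot_iff, ← hT1, inf_comm (perp B U)]
      exact inf_le_inf_right _ hU'T
    have hnle : ¬ U' ≤ perp B U := by
      intro h
      apply hU'.1
      rw [← hU'p, inf_eq_left.2 h]
    have hU'c : U' ≤ H951.cm s := by
      rcases eq_bot_or_of_irr hU' (H951.inv_cm (x := s)) with h | h
      · exfalso
        have h1 := H951.inf_fx_sup_inf_cm hr hsr hU'.2.1
        rw [h, sup_bot_eq] at h1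
        apply hnle
        intro y hy
        rw [← h1] at hy
        refine mem_perp.2 fun x hx => ?_
        rw [hsy]
        exact perp_fx_cm hB hy.2 (hUc hx)
      · exact h
    have h0 := hiso U hU hUc
    have h0' := hiso U' hU' hU'c
    have hUle : U ≤ perp B U := fun y hy => mem_perp.2 fun x hx => h0 x hx y hy
    have hUU' : U ⊓ U' = ⊥ := by
      rw [eq_bot_iff, ← hU'p, inf_comm]
      exact inf_le_inf_left _ hUle
    have hpU' : U ⊓ perp B U' = ⊥ := by
      rcases eq_bot_or_of_irr hU (inv_perp hB hinj hU'.2.1) with h | h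
      · exact h
      · exfalso
        apply hnle
        intro y hy
        refine mem_perp.2 fun x hx => ?_
        rw [hsy]
        exact mem_perp.1 (h hx) y hy
    have hX : H951.Inv s (U ⊔ U') := hU.2.1.sup hU'.2.1
    have hXp : (U ⊔ U') ⊓ perp B (U ⊔ U') = ⊥ := by
      rw [eq_bot_iff]
      rintro v ⟨hv1, hv2⟩
      obtain ⟨x, hx, y, hy, rfl⟩ := Submodule.mem_sup.1 hv1
      have hx0 : x ∈ U ⊓ perp B U' := by
        refine ⟨hx, mem_perp.2 fun z hz => ?_⟩
        have h3 := mem_perp.1 hv2 z (Submodule.mem_sup_right hz)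
        rwa [map_add, h0' z hz y hy, add_zero] at h3
      have hy0 : y ∈ U' ⊓ perp B U := by
        refine ⟨hy, mem_perp.2 fun z hz => ?_⟩
        have h3 := mem_perp.1 hv2 z (Submodule.mem_sup_left hz)
        rwa [map_add, h0 z hz x hx, zero_add] at h3
      rw [hpU', Submodule.mem_bot] at hx0
      rw [hU'p, Submodule.mem_bot] at hy0
      rw [hx0, hy0, add_zero]
      exact Submodule.mem_bot F |>.2 rfl
    have hnd := nd_restrict_of_inf hsy hXp
    refine ⟨U ⊔ U', hX, ?_, isCompl_perp hsy hnd, ?_⟩
    · intro h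
      apply hU.1
      rw [eq_bot_iff, ← h]
      exact le_sup_left
    · -- the two subspaces inside `U ⊔ U'`
      set X := U ⊔ U' with hXd
      have hUX : U ≤ X := le_sup_left
      have hU'X : U' ≤ X := le_sup_right
      have hc : IsCompl (U.comap X.subtype) (U'.comap X.subtype) := by
        constructor
        · rw [disjoint_iff, eq_bot_iff]
          rintro v ⟨hv1, hv2⟩
          have h3 : (v : V) ∈ U ⊓ U' := ⟨hv1, hv2⟩
          rw [hUU', Submodule.mem_bot] at h3
          exact (Submodule.mem_bot F).2 (Subtype.ext h3)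
        · rw [codisjoint_iff, eq_top_iff]
          rintro v -
          obtain ⟨x, hx, y, hy, hv⟩ := Submodule.mem_sup.1 (hXd ▸ v.2 : (v : V) ∈ U ⊔ U')
          have h3 : v = ⟨x, hUX hx⟩ + ⟨y, hU'X hy⟩ := Subtype.ext hv.symm
          rw [h3]
          exact Submodule.add_mem_sup hx hy
      refine pc_pair ho hnd (hsy.restrict X) (fun x y => hB x y) hc ⟨?_, ?_, ?_⟩ ?_ ?_ ?_
      · intro h
        apply hU.1
        rw [eq_bot_iff]
        intro x hx
        have h3 : (⟨x, hUX hx⟩ : X) ∈ U.comap X.subtype := hx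
        rw [h, Submodule.mem_bot] at h3
        exact (Submodule.mem_bot F).2 (congrArg Subtype.val h3)
      · intro x hx
        exact hU.2.1 _ hx
      · intro W hW hWi
        have h3 : H951.Inv s (W.map X.subtype) := by
          rintro _ ⟨w, hw, rfl⟩
          exact ⟨res s hX w, hWi w hw, rfl⟩
        have h4 : W.map X.subtype ≤ U := by
          rintro _ ⟨w, hw, rfl⟩
          exact hW hw
        rcases hU.2.2 _ h4 h3 with h5 | h5
        · left
          rw [eq_bot_iff]
          intro x hx
          have h6 : (x : V) ∈ W.map X.subtype := ⟨x, hx, rfl⟩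
          rw [h5, Submodule.mem_bot] at h6
          exact (Submodule.mem_bot F).2 (Subtype.ext h6)
        · right
          apply le_antisymm hW
          intro x hx
          have h6 : (x : V) ∈ W.map X.subtype := by rw [h5]; exact hx
          obtain ⟨y, hy, hyx⟩ := h6
          have h7 : y = x := Subtype.ext hyx
          rwa [← h7]
      · intro x hx
        exact hU'.2.1 _ hx
      · intro x hx y hy
        exact h0 _ hx _ hy
      · intro x hx y hy
        exact h0' _ hx _ hy

end Cfsg.Agent.H204
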