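import Mathlib
import Cfsg.Agent.H204.Piece

/-!
# Similarities commuting with an isometry of odd order (helper204)

* `exists_plane` : a nondegenerate plane with similarities of every multiplier;
* `exists_sim` : if `dim V = 2 m`, `s` an isometry of odd order prime to the characteristic: for each `c ≠ 0` there is
  `g` commuting with `s`, multiplying `B` by `c`, with `det g = c ^ m`.
-/

set_option autoImplicit false

namespace Cfsg.Agent.H204

open Module Polynomial

universe u v

variable {F : Type u} [Field F] {V : Type v} [AddCommGroup V] [Module F V]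

theorem exists_self_ne [Fintype F] (ho : Odd (Fintype.card F)) {B : LinearMap.BilinForm F V}
    (hn : Nd B) (hsy : Sy B) [Nontrivial V] : ∃ v, B v v ≠ 0 := by
  by_contra hcon
  push Not at hcon
  obtain ⟨x, hx⟩ := exists_ne (0 : V)
  apply hx
  apply hn
  intro y
  have h := hcon (x + y)
  rw [map_add, map_add, LinearMap.add_apply, LinearMap.add_apply, hcon x, hcon y, hsy y x, zero_add,
    add_zero, ← two_mul] at h
  exact (mul_eq_zero.1 h).resolve_left (two_ne_zero_of_odd ho)

/-- the binary form `α x² + β y²` represents everything -/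
theorem exists_repr [Fintype F] (ho : Odd (Fintype.card F)) {α β : F} (hα : α ≠ 0) (hβ : β ≠ 0)
    (c : F) : ∃ x y : F, α * x ^ 2 + β * y ^ 2 = c := by
  have hd : ∀ a b : F, a ≠ 0 → (C a * X ^ 2 + C b : F[X]).degree = 2 := by
    intro a b ha
    have h1 := Polynomial.degree_quadratic (a := a) (b := 0) (c := b) ha
    rwa [map_zero, zero_mul, add_zero] at h1
  obtain ⟨x, y, h⟩ := FiniteField.exists_root_sum_quadratic (hd α 0 hα) (hd β (-c) hβ)
    (by have := ho; rwa [← Nat.odd_iff])
  refine ⟨x, y, ?_⟩
  simp only [map_zero, add_zero, eval_mul, eval_C, eval_pow, eval_X, eval_add] at h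
  linear_combination h

theorem exists_plane [Fintype F] [FiniteDimensional F V] (ho : Odd (Fintype.card F))
    {B : LinearMap.BilinForm F V} (hn : Nd B) (hsy : Sy B) (hd : 2 ≤ finrank F V) :
    ∃ X : Submodule F V, X ≠ ⊥ ∧ IsCompl X (perp B X) ∧ finrank F X = 2 ∧
      ∀ c : F, c ≠ 0 → ∃ g : X →ₗ[F] X, Smi (B.restrict X) c g ∧ LinearMap.det g = c := by
  have hnt : Nontrivial V := Module.nontrivial_of_finrank_pos (R := F) (by omega)
  obtain ⟨e, he⟩ := exists_self_ne ho hn hsy
  have hc1 : IsCompl (Submodule.span F {e}) (perp B (Submodule.span F {e})) :=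
    LinearMap.BilinForm.isCompl_span_singleton_orthogonal he
  have hne : e ≠ 0 := by rintro rfl; rw [map_zero] at he; exact he rfl
  have hf1 := Submodule.finrank_add_eq_of_isCompl hc1
  rw [finrank_span_singleton hne] at hf1
  have hnt' : Nontrivial (perp B (Submodule.span F {e})) :=
    Module.nontrivial_of_finrank_pos (R := F) (by omega)
  obtain ⟨⟨f, hf⟩, hff⟩ := exists_self_ne ho (nd_restrict_perp hsy hn hc1.sup_eq_top)
    (hsy.restrict _)
  replace hff : B f f ≠ 0 := hff
  have hef : B e f = 0 := mem_perp.1 hf e (Submodule.mem_span_singleton_self e)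
  have hfe : B f e = 0 := by rw [hsy]; exact hef
  -- coordinates
  have hli : LinearIndependent F ![e, f] := by
    rw [LinearIndependent.pair_iff]
    intro a b h
    have h1 : B e (a • e + b • f) = 0 := by rw [h, map_zero]
    have h2 : B f (a • e + b • f) = 0 := by rw [h, map_zero]
    rw [map_add, map_smul, map_smul, hef, smul_zero, add_zero, smul_eq_mul] at h1
    rw [map_add, map_smul, map_smul, hfe, smul_zero, zero_add, smul_eq_mul] at h2
    exact ⟨(mul_eq_zero.1 h1).resolve_right he, (mul_eq_zero.1 h2).resolve_right hff⟩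
  set X := Submodule.span F (Set.range ![e, f]) with hX
  let b : Basis (Fin 2) F X := Basis.span hli
  have hb0 : ((b 0 : X) : V) = e := by rw [Basis.span_apply]; rfl
  have hb1 : ((b 1 : X) : V) = f := by rw [Basis.span_apply]; rfl
  have hrep : ∀ v : X, ∃ x y : F, v = x • b 0 + y • b 1 := by
    intro v
    refine ⟨b.repr v 0, b.repr v 1, ?_⟩
    conv_lhs => rw [← b.sum_repr v]
    rw [Fin.sum_univ_two]
  have hB00 : (B.restrict X) (b 0) (b 0) = B e e := by
    change B (b 0 : V) (b 0 : V) = _
    rw [hb0]
  have hB01 : (B.restrict X) (b 0) (b 1) = 0 := by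
    change B (b 0 : V) (b 1 : V) = _
    rw [hb0, hb1, hef]
  have hB10 : (B.restrict X) (b 1) (b 0) = 0 := by
    change B (b 1 : V) (b 0 : V) = _
    rw [hb0, hb1, hfe]
  have hB11 : (B.restrict X) (b 1) (b 1) = B f f := by
    change B (b 1 : V) (b 1 : V) = _
    rw [hb1]
  have hnd : Nd (B.restrict X) := by
    intro v hv
    obtain ⟨x, y, rfl⟩ := hrep v
    have h1 := hv (b 0)
    have h2 := hv (b 1)
    rw [map_add, map_smul, map_smul, LinearMap.add_apply, LinearMap.smul_apply,
      LinearMap.smul_apply, hB00, hB10, smul_zero, add_zero, smul_eq_mul] at h1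
    rw [map_add, map_smul, map_smul, LinearMap.add_apply, LinearMap.smul_apply,
      LinearMap.smul_apply, hB01, hB11, smul_zero, zero_add, smul_eq_mul] at h2
    rw [(mul_eq_zero.1 h1).resolve_right he, (mul_eq_zero.1 h2).resolve_right hff, zero_smul,
      zero_smul, add_zero]
  refine ⟨X, ?_, isCompl_perp hsy hnd, ?_, fun c hc => ?_⟩
  · intro h
    have h1 : e ∈ X := Submodule.subset_span ⟨0, rfl⟩
    rw [h, Submodule.mem_bot] at h1
    exact hne h1
  · rw [Module.finrank_eq_card_basis b, Fintype.card_fin]
  · obtain ⟨x, y, hxy⟩ := exists_repr ho he hff (c * B e e)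
    have hMB : ∀ u v u' v' : F, (B.restrict X) (u • b 0 + v • b 1) (u' • b 0 + v' • b 1) =
        u * u' * B e e + v * v' * B f f := by
      intro u v u' v'
      simp only [map_add, map_smul, LinearMap.add_apply, LinearMap.smul_apply, smul_eq_mul, hB00,
        hB01, hB10, hB11]
      ring
    set g : X →ₗ[F] X := Matrix.toLin b b !![x, -(B f f / B e e) * y; y, x] with hg
    have hg0 : g (b 0) = x • b 0 + y • b 1 := by
      rw [hg, Matrix.toLin_self, Fin.sum_univ_two]
      rfl
    have hg1 : g (b 1) = (-(B f f / B e e) * y) • b 0 + x • b 1 := by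
      rw [hg, Matrix.toLin_self, Fin.sum_univ_two]
      rfl
    have hgg : ∀ u v : F, g (u • b 0 + v • b 1) =
        (u * x - v * (B f f / B e e) * y) • b 0 + (u * y + v * x) • b 1 := by
      intro u v
      rw [map_add, map_smul, map_smul, hg0, hg1]
      module
    refine ⟨g, ?_, ?_⟩
    · intro u v
      obtain ⟨u₀, u₁, rfl⟩ := hrep u
      obtain ⟨v₀, v₁, rfl⟩ := hrep v
      rw [hgg, hgg, hMB, hMB]
      field_simp
      linear_combination (u₀ * v₀ * B e e + u₁ * v₁ * B f f) * hxy
    · rw [hg, LinearMap.det_toLin, Matrix.det_fin_two_of]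
      field_simp
      linear_combination hxy

theorem res_pow {s : Module.End F V} {X : Submodule F V} (h : H951.Inv s X) (n : ℕ) (x : X) :
    (((res s h) ^ n) x : V) = (s ^ n) (x : V) := by
  induction n generalizing x with
  | zero => rfl
  | succ n ih =>
    rw [pow_succ, Module.End.mul_apply, ih, coe_res, pow_succ, Module.End.mul_apply]

/-- similarities commuting with `s`, of every multiplier, "proper" -/
theorem exists_sim [Fintype F] (ho : Odd (Fintype.card F)) {r : ℕ} (hro : Odd r)
    (hr : (r : F) ≠ 0) {c : F} (hc : c ≠ 0) (m : ℕ) : ∀ (V : Type v) [AddCommGroup V] [Module F V]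
    [FiniteDimensional F V] (B : LinearMap.BilinForm F V) (s : Module.End F V), Nd B → Sy B →
    Smi B 1 s → s ^ r = 1 → finrank F V = 2 * m →
    ∃ g : Module.End F V, Smi B c g ∧ (∀ x, g (s x) = s (g x)) ∧ LinearMap.det g = c ^ m := by
  induction m using Nat.strong_induction_on with
  | _ m ih =>
    intro V _ _ _ B s hn hsy hB hsr hfr
    rcases Nat.eq_zero_or_pos m with rfl | hm
    · have : Subsingleton V := by
        rw [← finrank_zero_iff (R := F)]
        omega
      refine ⟨LinearMap.id, fun u v => ?_, fun x => rfl, by rw [LinearMap.det_id, pow_zero]⟩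
      rw [Subsingleton.elim u 0, map_zero, map_zero, LinearMap.zero_apply, LinearMap.zero_apply,
        mul_zero]
    · have hinj := injective_of_smi hn hB
      -- a piece
      obtain ⟨X, hX, hXne, hXc, d, hXd, gX, hg1, hg2, hg3⟩ : ∃ (X : Submodule F V)
          (hX : H951.Inv s X), X ≠ ⊥ ∧ IsCompl X (perp B X) ∧ ∃ d, finrank F X = 2 * d ∧
          ∃ g : X →ₗ[F] X, Smi (B.restrict X) c g ∧ (∀ x, g (res s hX x) = res s hX (g x)) ∧
          LinearMap.det g = c ^ d := by
        by_cases hs1 : s = 1
        · obtain ⟨X, h1, h2, h3, h4⟩ := exists_plane ho hn hsy (by omega)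
          obtain ⟨g, h5, h6⟩ := h4 c hc
          have hX : H951.Inv s X := fun x hx => by rw [hs1]; exact hx
          have hres : ∀ x, res s hX x = x := fun x => Subtype.ext (by rw [coe_res, hs1]; rfl)
          exact ⟨X, hX, h1, h2, 1, h3, g, h5, fun x => by rw [hres, hres], by rw [h6, pow_one]⟩
        · obtain ⟨X, hX, h1, h2, h3⟩ := exists_piece ho hn hsy hB hro hr hsr hs1
          obtain ⟨d, h4, h5⟩ := h3.sim
          exact ⟨X, hX, h1, h2, d, h4, h5 c hc⟩
      have hY : H951.Inv s (perp B X) := inv_perp hB hinj hX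
      have hfY := Submodule.finrank_add_eq_of_isCompl hXc
      have hX0 : finrank F X ≠ 0 := fun h => hXne (Submodule.finrank_eq_zero.1 h)
      obtain ⟨gY, h1, h2, h3⟩ := ih (m - d) (by omega) (perp B X) (B.restrict (perp B X))
        (res s hY) (nd_restrict_perp hsy hn hXc.sup_eq_top) (hsy.restrict _) (fun x y => hB x y)
        (by
          ext1 x
          apply Subtype.ext
          rw [res_pow, hsr]; rfl) (by omega)
      refine ⟨glue hXc gX gY, smi_glue hsy hXc hg1 h1, commute_glue hXc hX hY hg2 h2, ?_⟩
      rw [det_glue, hg3, h3, ← pow_add]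
      congr 1
      omega

end Cfsg.Agent.H204
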