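import Mathlib
import Cfsg.Agent.H204.Plane

/-!
# An isometry of spinor sign `-1` commuting with an isometry of odd order (helper204)

* `sign_of_semireg` : sign of a permutation all of whose non-trivial cycles have the same even length;
* `exists_odd_torus` : `s ≠ 1` an isometry of odd order prime to the characteristic: an isometry `t` commuting
  with `s`, `det t = 1`, acting on each `{v | B v v = a}`, `a ≠ 0`, as an odd permutation.
-/

set_option autoImplicit false

namespace Cfsg.Agent.H204

open Module Polynomial

universe u v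

theorem sign_of_semireg {α : Type*} [Fintype α] [DecidableEq α] (σ : Equiv.Perm α) {N : ℕ}
    (hN : Even N) (hpos : 0 < N) (h1 : σ ^ N = 1)
    (h2 : ∀ x, σ x ≠ x → ∀ j : ℕ, (σ ^ j) x = x → N ∣ j) {k : ℕ}
    (hk : (Finset.univ.filter fun x => σ x ≠ x).card = N * k) :
    Equiv.Perm.sign σ = (-1) ^ k := by
  have h3 : σ.cycleType = Multiset.replicate σ.cycleType.card N := by
    rw [Multiset.eq_replicate_card]
    intro n hn
    obtain ⟨c, τ, hσ, hd, hc, hcn⟩ := Equiv.Perm.mem_cycleType_iff.1 hn
    obtain ⟨x, hx, -⟩ := id hc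
    have hpow : ∀ j : ℕ, (σ ^ j) x = (c ^ j) x := by
      intro j
      have hτ : τ x = x := (hd x).resolve_left hx
      have hτj : (τ ^ j) x = x := by
        induction j with
        | zero => rfl
        | succ j ih => rw [pow_succ, Equiv.Perm.mul_apply, hτ, ih]
      rw [hσ, hd.commute.mul_pow, Equiv.Perm.mul_apply, hτj]
    have ho : orderOf c = n := by rw [hc.orderOf, hcn]
    apply Nat.dvd_antisymm
    · rw [← ho, orderOf_dvd_iff_pow_eq_one, hc.pow_eq_one_iff' hx, ← hpow, h1]
      rfl
    · apply h2 x
      · have := hpow 1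
        rw [pow_one, pow_one] at this
        rwa [this]
      · rw [hpow, ← ho, pow_orderOf_eq_one]
        rfl
  rw [Equiv.Perm.sign_of_cycleType_eq_replicate hpos h3, if_neg (Nat.not_odd_iff_even.2 hN)]
  congr 1
  have h4 : Fintype.card (Function.fixedPoints σ) = (Finset.univ.filter fun x => σ x = x).card := by
    rw [Fintype.card_subtype]
    rfl
  have h5 := Finset.card_filter_add_card_filter_not (s := (Finset.univ : Finset α))
    (fun x => σ x = x)
  rw [Finset.card_univ] at h5
  have h6 : Fintype.card α - Fintype.card (Function.fixedPoints σ) = N * k := by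
    rw [h4, ← hk]
    change _ = (Finset.univ.filter fun x => ¬ σ x = x).card
    omega
  rw [h6, Nat.mul_div_cancel_left _ hpos]

variable {F : Type u} [Field F] {V : Type v} [AddCommGroup V] [Module F V]

theorem even_card_level [Fintype F] [Finite V] (ho : Odd (Fintype.card F))
    (B : LinearMap.BilinForm F V) {a : F} (ha : a ≠ 0) : Even (Nat.card {v : V // B v v = a}) := by
  classical
  have := Fintype.ofFinite {v : V // B v v = a}
  let τ : Function.End {v : V // B v v = a} := fun v => ⟨-v.1, by
    rw [map_neg, map_neg, LinearMap.neg_apply, neg_neg]; exact v.2⟩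
  have hτ : τ ^ 2 ^ 1 = 1 := by
    rw [pow_one, pow_two]
    funext v
    exact Subtype.ext (neg_neg v.1)
  have h1 := Equiv.Perm.card_fixedPoints_modEq (p := 2) hτ
  have h2 : Fintype.card (Function.fixedPoints τ) = 0 := by
    rw [Fintype.card_eq_zero_iff]
    refine ⟨fun v => ?_⟩
    obtain ⟨⟨v, hv⟩, hf⟩ := v
    have h3 : -v = v := congrArg Subtype.val hf
    have h4 : (2 : F) • v = 0 := by
      rw [two_smul]
      nth_rewrite 1 [← h3]
      exact neg_add_cancel v
    have h5 : v = 0 := (smul_eq_zero.1 h4).resolve_left (two_ne_zero_of_odd ho)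
    apply ha
    rw [← hv, h5, map_zero]
  rw [h2] at h1
  rw [Nat.card_eq_fintype_card]
  exact even_iff_two_dvd.2 (Nat.modEq_zero_iff_dvd.1 h1)

theorem odd_sum {ι : Type*} (s : Finset ι) (f : ι → ℕ) (p : ι → Prop) [DecidablePred p]
    (h : ∀ i ∈ s, (Odd (f i) ↔ p i)) : (Odd (∑ i ∈ s, f i) ↔ Odd (s.filter p).card) := by
  classical
  induction s using Finset.induction_on with
  | empty => simp
  | insert a s ha ih =>
    have h1 := ih fun i hi => h i (Finset.mem_insert_of_mem hi)
    have h2 := h a (Finset.mem_insert_self a s)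
    rw [Finset.sum_insert ha, Finset.filter_insert, Nat.odd_add]
    split_ifs with hp
    · rw [Finset.card_insert_of_notMem (fun hm => ha (Finset.mem_filter.1 hm).1), Nat.odd_add_one,
        ← h1, ← Nat.not_odd_iff_even]
      have := h2.2 hp
      tauto
    · rw [← h1, ← Nat.not_odd_iff_even]
      tauto

/-- An isometry commuting with `s` which is an odd permutation of the quadrics. -/
theorem exists_odd_torus [Fintype F] [FiniteDimensional F V] (ho : Odd (Fintype.card F))
    {B : LinearMap.BilinForm F V} (hn : Nd B) (hsy : Sy B) {s : Module.End F V} (hB : Smi B 1 s)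
    {r : ℕ} (hro : Odd r) (hr : (r : F) ≠ 0) (hsr : s ^ r = 1) (hs1 : s ≠ 1) :
    ∃ t : Module.End F V, Smi B 1 t ∧ (∀ x, t (s x) = s (t x)) ∧ LinearMap.det t = 1 ∧
      ∀ a : F, a ≠ 0 → ∀ [Fintype {v : V // B v v = a}] [DecidableEq {v : V // B v v = a}]
        (σ : Equiv.Perm {v : V // B v v = a}), (∀ v, (σ v : V) = t v) →
        Equiv.Perm.sign σ = -1 := by
  classical
  have hVf : Finite V := Module.finite_of_finite F
  obtain ⟨X, hX, hXne, hXc, hP⟩ := exists_piece ho hn hsy hB hro hr hsr hs1
  obtain ⟨tX, N, hNe, hNpos, h1, h2, h3, h4, h5, h6⟩ := hP.tor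
  have hinj := injective_of_smi hn hB
  have hY : H951.Inv s (perp B X) := inv_perp hB hinj hX
  refine ⟨glue hXc tX LinearMap.id, smi_glue hsy hXc h1 (fun u v => (one_mul _).symm),
    commute_glue hXc hX hY h2 (fun _ => rfl), by rw [det_glue, h3, LinearMap.det_id, one_mul], ?_⟩
  intro a ha iFt iDe σ hσ
  set t := glue hXc tX LinearMap.id with ht
  have hσj : ∀ (j : ℕ) v, ((σ ^ j) v : V) = (t ^ j) v := by
    intro j
    induction j with
    | zero => intro v; rfl
    | succ j ih =>
      intro v
      rw [pow_succ, Equiv.Perm.mul_apply, ih, hσ, pow_succ, Module.End.mul_apply]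
  have hN1 : N ≠ 1 := by
    rintro rfl
    exact absurd hNe (by decide)
  have hid : ∀ (j : ℕ) (y : perp B X), ((LinearMap.id : Module.End F (perp B X)) ^ j) y = y := by
    intro j y
    have : (LinearMap.id : Module.End F (perp B X)) ^ j = 1 := one_pow j
    rw [this]; rfl
  have htj : ∀ (j : ℕ) (x : X) (y : perp B X), (t ^ j) ((x : V) + y) = ((tX ^ j) x : V) + y := by
    intro j x y
    rw [ht, glue_pow, hid]
  -- fixed vectors
  have hfix : ∀ (j : ℕ) (x : X) (y : perp B X), (t ^ j) ((x : V) + y) = (x : V) + y →
      (tX ^ j) x = x := by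
    intro j x y h
    rw [htj] at h
    exact (add_eq_add_of_isCompl hXc h).1
  have hcard : ∃ k, (Finset.univ.filter fun v => σ v ≠ v).card = N * k ∧ Odd k := by
    choose m hm hm' using h6
    have := Fintype.ofFinite (perp B X)
    refine ⟨∑ y : perp B X, m (a - B y y), ?_, ?_⟩
    · have e : {v // σ v ≠ v} ≃ Σ y : perp B X, {x : X // x ≠ 0 ∧ (B.restrict X) x x = a - B y y} := by
        let e0 := Submodule.prodEquivOfIsCompl X (perp B X) hXc
        have he0 : ∀ x y, e0 (x, y) = (x : V) + y := fun x y => rfl
        have hB0 : ∀ (x : X) (y : perp B X), B ((x : V) + y) ((x : V) + y) = B x x + B y y := by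
          intro x y
          have h7 : B x y = 0 := mem_perp.1 y.2 _ x.2
          have h8 : B y x = 0 := by rw [hsy]; exact h7
          rw [map_add, map_add, LinearMap.add_apply, LinearMap.add_apply, h7, h8]
          ring
        refine
          { toFun := fun v => ⟨(e0.symm v.1.1).2, (e0.symm v.1.1).1, ?_, ?_⟩
            invFun := fun z => ⟨⟨e0 (z.2.1, z.1), ?_⟩, ?_⟩
            left_inv := fun v => ?_
            right_inv := fun z => ?_ }
        · obtain ⟨⟨v, hv⟩, hσv⟩ := v
          obtain ⟨⟨x, y⟩, rfl⟩ := e0.surjective v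
          simp only [LinearEquiv.symm_apply_apply]
          rintro rfl
          apply hσv
          apply Subtype.ext
          rw [hσ]
          change t (e0 (0, y)) = e0 (0, y)
          have h7 := htj 1 0 y
          rw [pow_one, pow_one, map_zero] at h7
          exact h7
        · obtain ⟨⟨v, hv⟩, hσv⟩ := v
          obtain ⟨⟨x, y⟩, rfl⟩ := e0.surjective v
          simp only [LinearEquiv.symm_apply_apply]
          rw [he0, hB0] at hv
          change B x x = _
          rw [← hv]; ring
        · obtain ⟨y, x, hx, hxy⟩ := z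
          change B (e0 (x, y)) (e0 (x, y)) = a
          rw [he0, hB0]
          replace hxy : B x x = a - B y y := hxy
          rw [hxy]; ring
        · obtain ⟨y, x, hx, hxy⟩ := z
          intro h
          have h7 := congrArg Subtype.val h
          rw [hσ] at h7
          have h8 : (t ^ 1) ((x : V) + y) = (x : V) + y := by rw [pow_one]; exact h7
          have h9 := h5 x hx 1 (hfix 1 x y h8)
          exact hN1 (Nat.dvd_one.1 h9)
        · apply Subtype.ext
          apply Subtype.ext
          exact e0.apply_symm_apply _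
        · obtain ⟨y, x, hx, hxy⟩ := z
          have h7 : e0.symm (e0 (x, y)) = (x, y) := e0.symm_apply_apply _
          exact Sigma.subtype_ext (congrArg Prod.snd h7) (congrArg Prod.fst h7)
      rw [← Fintype.card_subtype, ← Nat.card_eq_fintype_card, Nat.card_congr e, Nat.card_sigma,
        Finset.mul_sum]
      exact Finset.sum_congr rfl fun y _ => hm _
    · rw [odd_sum _ _ (fun y : perp B X => B y y ≠ a) (fun y _ => by
        rw [hm' (a - B y y), Ne, sub_eq_zero, eq_comm])]
      have h7 := even_card_level (V := perp B X) ho (B.restrict (perp B X)) ha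
      have h8 := odd_card_module ho (perp B X)
      have h9 := Finset.card_filter_add_card_filter_not (s := (Finset.univ : Finset (perp B X)))
        (fun y => B y y = a)
      rw [Finset.card_univ, ← Nat.card_eq_fintype_card] at h9
      have h10 : Nat.card {v : perp B X // (B.restrict (perp B X)) v v = a} =
          (Finset.univ.filter fun y : perp B X => B y y = a).card := by
        rw [Nat.card_eq_fintype_card, Fintype.card_subtype]
        rfl
      rw [h10] at h7
      rw [← h9] at h8
      exact (Nat.odd_add'.1 h8).2 h7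
  obtain ⟨k, hk, hko⟩ := hcard
  rw [sign_of_semireg σ hNe hNpos ?_ ?_ hk, hko.neg_one_pow]
  · ext v
    rw [hσj]
    obtain ⟨x, y, hxy⟩ := exists_add hXc (v : V)
    rw [← hxy, htj, h4]
    exact hxy
  · intro v hv j hj
    obtain ⟨x, y, hxy⟩ := exists_add hXc (v : V)
    have hx : x ≠ 0 := by
      rintro rfl
      apply hv
      apply Subtype.ext
      rw [hσ, ← hxy]
      have h7 := htj 1 0 y
      rw [pow_one, pow_one, map_zero] at h7
      exact h7
    refine h5 x hx j (hfix j x y ?_)
    rw [hxy, ← hσj, hj]

end Cfsg.Agent.H204
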